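import Groth.Agent.Lib.LefEt7.QuasiAffine
import Groth.Agent.Lib.FlatBC.Push
import Groth.Agent.Lib.RelVanish.Counit
import Groth.Agent.Lib.Ample.Product
import Groth.Agent.Lib.OX.PullbackKFlat
import Groth.Agent.Lib.FTDesc.LocFree

/-!
# Global generation descends along faithfully flat extensions of the base ring
-/

set_option autoImplicit false
set_option linter.all false
set_option backward.isDefEq.respectTransparency false
set_option maxHeartbeats 1000000

universe u

open CategoryTheory CategoryTheory.Limits AlgebraicGeometry Opposite TopologicalSpace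
open scoped TensorProduct

noncomputable section

namespace GrothLib.GGDesc10

variable {X X' : Scheme.{u}}

/-- Global generation is stable under pullback. -/
theorem isGloballyGenerated_pullback (π : X' ⟶ X) {F : X.Modules} (h : Curv2.IsGloballyGenerated F) :
    Curv2.IsGloballyGenerated ((Scheme.Modules.pullback π).obj F) := by
  haveI := LefEt7.epi_freeCover_of_isGloballyGenerated h
  haveI := (Scheme.Modules.pullbackPushforwardAdjunction π).isLeftAdjoint
  let P := Scheme.Modules.pullback π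
  obtain ⟨v⟩ := Ample.nonempty_pullback_structureModule π
  let e : (∐ fun _ : Γ(F, ⊤) => Coh.structureModule X') ≅ P.obj (∐ fun _ : Γ(F, ⊤) => Coh.structureModule X) :=
    (Sigma.mapIso fun _ => v.symm) ≪≫ (PreservesCoproduct.iso P fun _ : Γ(F, ⊤) => Coh.structureModule X).symm
  haveI : Epi (P.map (FunMor20.freeCover F)) := P.map_epi _
  exact ⟨Γ(F, ⊤), e.hom ≫ P.map (FunMor20.freeCover F), epi_comp _ _⟩

/-- Epimorphisms are detected after a flat surjective pullback. -/
theorem epi_of_epi_pullback (π : X' ⟶ X) [Flat π] [Surjective π] {M N : X.Modules} (φ : M ⟶ N)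
    (hp : Epi ((Scheme.Modules.pullback π).map φ)) : Epi φ := by
  refine (OX.epi_iff φ).2 fun y => ?_
  obtain ⟨z, rfl⟩ := π.surjective y
  have hz : Epi ((ModuleCat.extendScalars (π.stalkMap z).hom).map ((OX.stalk (π z)).map φ)) := by
    refine ((MorphismProperty.epimorphisms _).arrow_mk_iso_iff
      (Arrow.isoMk ((OX.pullStalkIso π z).app M) ((OX.pullStalkIso π z).app N)
        ((OX.pullStalkIso π z).hom.naturality φ).symm)).1 ?_
    exact (OX.epi_iff _).1 hp z
  rw [ModuleCat.epi_iff_surjective] at hz ⊢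
  let B := X.presheaf.stalk (π z)
  let S := X'.presheaf.stalk z
  letI : Algebra B S := (π.stalkMap z).hom.toAlgebra
  haveI : Module.Flat B S := Flat.stalkMap π z
  haveI : IsLocalHom (algebraMap B S) := inferInstanceAs (IsLocalHom (π.stalkMap z).hom)
  haveI : Module.FaithfullyFlat B S := Module.FaithfullyFlat.of_flat_of_isLocalHom
  refine (Module.FaithfullyFlat.lTensor_surjective_iff_surjective B S ((OX.stalk (π z)).map φ).hom).1 ?_
  exact hz

/-- Global sections of a flat base change are spanned by pullbacks of global sections. -/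
theorem agree_on_sections {A A' : Type u} [CommRing A] [CommRing A'] (ψ : A →+* A')
    {f : X ⟶ Spec (CommRingCat.of A)} [QuasiCompact f] [QuasiSeparated f] {g' : X' ⟶ X}
    {f' : X' ⟶ Spec (CommRingCat.of A')} [Flat (Spec.map (CommRingCat.ofHom ψ))]
    (H : IsPullback g' f' f (Spec.map (CommRingCat.ofHom ψ))) {F : X.Modules} [F.IsQuasicoherent] {N : X'.Modules}
    (a b : (Scheme.Modules.pullback g').obj F ⟶ N)
    (hab : ∀ s : Γ(F, ⊤), a.app ⊤ (QCoh.pullSec g' F (le_top : (⊤ : X'.Opens) ≤ g' ⁻¹ᵁ ⊤) s) =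
      b.app ⊤ (QCoh.pullSec g' F (le_top : (⊤ : X'.Opens) ≤ g' ⁻¹ᵁ ⊤) s))
    (t : Γ((Scheme.Modules.pullback g').obj F, ⊤)) : a.app ⊤ t = b.app ⊤ t := by
  let g := Spec.map (CommRingCat.ofHom ψ)
  haveI := FlatBC.isIso_bcMap H F
  haveI := QCoh.isQuasicoherent_pushforward f F
  let G := (Scheme.Modules.pushforward f).obj F
  let F' := (Scheme.Modules.pullback g').obj F
  letI : Algebra Γ(Spec (CommRingCat.of A), ⊤) Γ(Spec (CommRingCat.of A'), ⊤) :=
    (g.appLE ⊤ ⊤ le_top).hom.toAlgebra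
  have hbij : Function.Bijective ((AffBC.bcMap H F).app ⊤) := by
    haveI := Scheme.Modules.Hom.isIso_iff_isIso_app.1 (inferInstance : IsIso (AffBC.bcMap H F)) ⊤
    exact ConcreteCategory.bijective_of_isIso _
  obtain ⟨t₁, ht₁⟩ := hbij.2 (show Γ((Scheme.Modules.pushforward f').obj F', ⊤) from t)
  obtain ⟨z, rfl⟩ := (QCoh.bijective_sectionsMap g G (le_top : (⊤ : (Spec (CommRingCat.of A')).Opens) ≤ g ⁻¹ᵁ ⊤) rfl
    (isAffineOpen_top _) (isAffineOpen_top _)).2 t₁
  rw [← ht₁]
  induction z using TensorProduct.induction_on generalizing t with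
  | zero => simp only [map_zero]
  | add x y hx hy =>
    rw [map_add, map_add]
    exact (map_add (a.app ⊤).hom _ _).trans ((congrArg₂ (· + ·) (hx _ rfl) (hy _ rfl)).trans (map_add (b.app ⊤).hom _ _).symm)
  | tmul c s =>
    rw [QCoh.sectionsMap_tmul, Scheme.Modules.Hom.app_smul]
    erw [AffBC.bcMap_pullSec H F le_top s]
    show a.app ⊤ ((show Γ(X', ⊤) from f'.app ⊤ c) • (show Γ(F', ⊤) from QCoh.pullSec g' F (le_top : (⊤ : X'.Opens) ≤ g' ⁻¹ᵁ ⊤) s)) =
      b.app ⊤ ((show Γ(X', ⊤) from f'.app ⊤ c) • (show Γ(F', ⊤) from QCoh.pullSec g' F (le_top : (⊤ : X'.Opens) ≤ g' ⁻¹ᵁ ⊤) s))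
    rw [Scheme.Modules.Hom.app_smul, Scheme.Modules.Hom.app_smul]
    exact congrArg _ (hab s)

/-- **Global generation descends along a faithfully flat extension of the base ring.** -/
theorem isGloballyGenerated_iff {A A' : Type u} [CommRing A] [CommRing A'] (ψ : A →+* A')
    {f : X ⟶ Spec (CommRingCat.of A)} [QuasiCompact f] [QuasiSeparated f] {g' : X' ⟶ X}
    {f' : X' ⟶ Spec (CommRingCat.of A')} [Flat (Spec.map (CommRingCat.ofHom ψ))]
    [Surjective (Spec.map (CommRingCat.ofHom ψ))]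
    (H : IsPullback g' f' f (Spec.map (CommRingCat.ofHom ψ))) (F : X.Modules) [F.IsQuasicoherent] :
    Curv2.IsGloballyGenerated F ↔ Curv2.IsGloballyGenerated ((Scheme.Modules.pullback g').obj F) := by
  refine ⟨isGloballyGenerated_pullback g', fun h => ?_⟩
  haveI : Flat g' := MorphismProperty.of_isPullback H.flip ‹Flat (Spec.map (CommRingCat.ofHom ψ))›
  haveI : Surjective g' := MorphismProperty.of_isPullback H.flip ‹Surjective (Spec.map (CommRingCat.ofHom ψ))›
  let q := FunMor20.freeCover F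
  suffices Epi q from ⟨Γ(F, ⊤), q, this⟩
  refine epi_of_epi_pullback g' q ⟨fun {N : X'.Modules} a b hab => ?_⟩
  have hs : ∀ s : Γ(F, ⊤), a.app ⊤ (QCoh.pullSec g' F (le_top : (⊤ : X'.Opens) ≤ g' ⁻¹ᵁ ⊤) s) =
      b.app ⊤ (QCoh.pullSec g' F (le_top : (⊤ : X'.Opens) ≤ g' ⁻¹ᵁ ⊤) s) := by
    intro s
    let o := (Sigma.ι (fun _ : Γ(F, ⊤) => Coh.structureModule X) s).app ⊤ (FinCov.one X ⊤)
    have hq : q.app ⊤ o = s := by
      show (Sigma.ι (fun _ : Γ(F, ⊤) => Coh.structureModule X) s ≫ q).app ⊤ (FinCov.one X ⊤) = s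
      simp only [q, FunMor20.freeCover, Sigma.ι_desc]
      exact (FinCov.homOfSection_one s ⊤).trans (LefEt7.presheaf_map_self _ _ _)
    have hn := QCoh.pullSec_natural g' q (le_top : (⊤ : X'.Opens) ≤ g' ⁻¹ᵁ ⊤) o
    rw [← hq]
    erw [← hn]
    exact congrArg (fun k => Scheme.Modules.Hom.app k ⊤ (QCoh.pullSec g' _ (le_top : (⊤ : X'.Opens) ≤ g' ⁻¹ᵁ ⊤) o)) hab
  have hall := agree_on_sections ψ H a b hs
  obtain ⟨ι, p, hp⟩ := h
  exact (cancel_epi p).1 (LefEt7.eq_of_freeHom_top a b fun i => hall _)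

end GrothLib.GGDesc10
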